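import Groth.Agent.AlgGrp.K399.Const
import Groth.Agent.Sga3.H780.RigidProper
import Groth.Agent.Sga3C.GrpIrr
import Groth.Agent.Flat2B.SmoothGeom

/-!
# Basic facts on functions on products

* `geometricallyIntegral`, `isIntegral`: smooth connected groups;
* `isIso_snd_app`: `P` qcqs over a field with only constant functions, then `O_Y = (pr_2)_* O_{P × Y}`;
* `isIso_tensor`: products of anti-affine schemes are anti-affine;
* `isIso_appTop_of_group`: proper smooth connected groups have only constant functions.
-/

set_option autoImplicit false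
universe u
open CategoryTheory MonoidalCategory CartesianMonoidalCategory MonObj GrpObj AlgebraicGeometry CategoryTheory.Limits

namespace K399.Basic

open Groth.Agent

variable {k : Type u} [Field k]

/-- A smooth connected group scheme over a field is geometrically integral. -/
theorem geometricallyIntegral (G : Over (Spec (CommRingCat.of k))) [GrpObj G] [Smooth G.hom]
    [ConnectedSpace G.left] : GeometricallyIntegral G.hom := by
  have : GrpObj (Over.mk G.hom) := inferInstanceAs (GrpObj G)
  have := Sga3C.GrpIrr.geometricallyIrreducible_of_connectedSpace G.hom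
  exact Flat2B.SmoothGeom.geometricallyIntegral_of_smooth G.hom

theorem isIntegral (G : Over (Spec (CommRingCat.of k))) [GrpObj G] [Smooth G.hom]
    [ConnectedSpace G.left] : IsIntegral G.left := by
  have := geometricallyIntegral G
  exact GeometricallyIntegral.isIntegral_of_subsingleton G.hom

theorem isIso_appTop_of_group (G : Over (Spec (CommRingCat.of k))) [GrpObj G] [Smooth G.hom]
    [ConnectedSpace G.left] [IsProper G.hom] : IsIso G.hom.appTop := by
  have := geometricallyIntegral G
  exact Sga3.H780.RigidProper.isIso_appTop_hom G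

/-- a morphism whose pullback of functions is an isomorphism over all affine opens -/
theorem isIso_app_of_affine {X Y : Scheme.{u}} (f : X ⟶ Y)
    (h : ∀ V : Y.Opens, IsAffineOpen V → IsIso (f.app V)) (V : Y.Opens) : IsIso (f.app V) := by
  let φ : Y.sheaf ⟶ (TopCat.Sheaf.pushforward CommRingCat f.base).obj X.sheaf := ⟨f.c⟩
  have hφ : IsIso φ := by
    refine TopCat.Sheaf.isIso_iff_isIso_basis (B := fun V : Y.affineOpens => (V : Y.Opens)) ?_ ?_
    · rw [Subtype.range_coe]
      exact Y.isBasis_affineOpens
    · intro i
      exact h i.1 i.2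
  have : IsIso φ.hom := Functor.map_isIso (TopCat.Sheaf.forget CommRingCat _) φ
  exact (NatTrans.isIso_iff_isIso_app φ.hom).mp this (Opposite.op V)

theorem isIso_snd_app (P Y : Over (Spec (CommRingCat.of k))) [CompactSpace P.left] [QuasiSeparatedSpace P.left]
    [IsIso P.hom.appTop] (V : Y.left.Opens) : IsIso ((snd P Y).left.app V) := by
  refine isIso_app_of_affine _ (fun V hV => ?_) V
  have H : IsPullback (fst P Y).left (snd P Y).left P.hom Y.hom := IsPullback.of_hasPullback _ _
  have h := isIso_pushoutSection_of_isQuasiSeparated_of_flat_right H (US := ⊤) (UT := V) (UX := ⊤)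
    (UY := (snd P Y).left ⁻¹ᵁ V) le_top le_top (by simp) (isAffineOpen_top _) hV
    (by simpa using isCompact_univ) (by simpa using isQuasiSeparated_univ)
  rw [isIso_pushoutSection_iff] at h
  have h1 : IsIso (P.hom.appLE ⊤ ⊤ (le_top : (⊤ : P.left.Opens) ≤ P.hom ⁻¹ᵁ ⊤)) := by
    rw [Books.AntiAffine.appLE_top_eq]; infer_instance
  have h2 := h.isIso_inr_of_isIso
  simpa [Scheme.Hom.appLE] using h2

theorem isIso_tensor (P Y : Over (Spec (CommRingCat.of k))) [CompactSpace P.left] [QuasiSeparatedSpace P.left]
    [IsIso P.hom.appTop] [IsIso Y.hom.appTop] : IsIso (P ⊗ Y).hom.appTop := by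
  have h : (P ⊗ Y).hom = (snd P Y).left ≫ Y.hom := (Over.w (snd P Y)).symm
  have h1 : IsIso (snd P Y).left.appTop := isIso_snd_app P Y ⊤
  rw [h, Scheme.Hom.comp_appTop]
  infer_instance

end K399.Basic
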