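import Groth.Prelude.Def_AlgGrp

/-!
# Actions of group schemes on points
-/

set_option autoImplicit false
universe u
open CategoryTheory MonoidalCategory CartesianMonoidalCategory MonObj GrpObj AlgebraicGeometry CategoryTheory.Limits

namespace K399.Act

variable {S : Scheme.{u}} {G X : Over S} [GrpObj G] (a : AlgGrp.Action G X)

theorem one_smul {T : Over S} (x : T ⟶ X) : lift (1 : T ⟶ G) x ≫ a.act = x := by
  have := lift (toUnit T) x ≫= a.one_act
  simpa [Hom.one_def] using this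

theorem mul_smul {T : Over S} (g h : T ⟶ G) (x : T ⟶ X) :
    lift (g * h) x ≫ a.act = lift g (lift h x ≫ a.act) ≫ a.act := by
  have h1 := lift (lift g h) x ≫= a.mul_act
  simpa [Hom.mul_def] using h1

theorem comp_smul {T T' : Over S} (u : T' ⟶ T) (g : T ⟶ G) (x : T ⟶ X) :
    u ≫ lift g x ≫ a.act = lift (u ≫ g) (u ≫ x) ≫ a.act := by
  rw [comp_lift_assoc]

theorem smul_inv_smul {T : Over S} (g : T ⟶ G) (x : T ⟶ X) :
    lift g (lift g⁻¹ x ≫ a.act) ≫ a.act = x := by
  rw [← mul_smul, mul_inv_cancel, one_smul]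

theorem inv_smul_smul {T : Over S} (g : T ⟶ G) (x : T ⟶ X) :
    lift g⁻¹ (lift g x ≫ a.act) ≫ a.act = x := by
  rw [← mul_smul, inv_mul_cancel, one_smul]

theorem smul_eq_iff {T : Over S} (g : T ⟶ G) (x y : T ⟶ X) :
    lift g x ≫ a.act = y ↔ x = lift g⁻¹ y ≫ a.act := by
  constructor
  · rintro rfl
    rw [inv_smul_smul]
  · rintro rfl
    rw [smul_inv_smul]

/-- the action morphism on points -/
theorem act_eq : a.act = lift (fst G X) (snd G X) ≫ a.act := by
  simp

/-- an action from a pointwise description -/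
def ofPoints (m : G ⊗ X ⟶ X) (h1 : ∀ (T : Over S) (x : T ⟶ X), lift (1 : T ⟶ G) x ≫ m = x)
    (h2 : ∀ (T : Over S) (g h : T ⟶ G) (x : T ⟶ X), lift (g * h) x ≫ m = lift g (lift h x ≫ m) ≫ m) :
    AlgGrp.Action G X where
  act := m
  one_act := by
    have := h1 _ (λ_ X).hom
    rw [← this]
    congr 1
  mul_act := by
    have := h2 _ (fst (G ⊗ G) X ≫ fst G G) (fst (G ⊗ G) X ≫ snd G G) (snd (G ⊗ G) X)
    have e1 : (μ[G] ▷ X) = lift ((fst (G ⊗ G) X ≫ fst G G) * (fst (G ⊗ G) X ≫ snd G G)) (snd (G ⊗ G) X) := by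
      ext1
      · simp [Hom.mul_def, ← comp_lift]
      · simp
    have e2 : (α_ G G X).hom ≫ (G ◁ m) = lift (fst (G ⊗ G) X ≫ fst G G)
        (lift (fst (G ⊗ G) X ≫ snd G G) (snd (G ⊗ G) X) ≫ m) := by
      ext1
      · simp
      · simp only [lift_snd, Category.assoc, whiskerLeft_snd]
        rw [← Category.assoc]
        congr 1
        ext1 <;> simp
    rw [e1, this, ← Category.assoc, e2]

@[simp] theorem ofPoints_act (m : G ⊗ X ⟶ X) (h1 : ∀ (T : Over S) (x : T ⟶ X), lift (1 : T ⟶ G) x ≫ m = x)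
    (h2 : ∀ (T : Over S) (g h : T ⟶ G) (x : T ⟶ X), lift (g * h) x ≫ m = lift g (lift h x ≫ m) ≫ m) :
    (ofPoints m h1 h2).act = m := rfl

theorem ext {a b : AlgGrp.Action G X} (h : a.act = b.act) : a = b := by
  cases a; cases b; simpa using h

end K399.Act
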