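import Groth.Agent.AlgGrp.K398.Affin
import Groth.Agent.AlgGrp.K398.Pts
import Groth.Agent.AlgGrp.K404.AbAff
import Groth.Agent.AlgGrp.K411.IsogWord
import Groth.Agent.AGF.K492.Basic
import Groth.Agent.Agf.H623.BorelSch
import Groth.Agent.S7997
import Groth.Agent.S3900
import Groth.Agent.S0115
import Groth.Agent.AlgGrp.K399.Basic
import Groth.Agent.AlgGrp.K400.Basic

/-!
# Maximal connected solvable subgroups of non-affine groups
-/

set_option autoImplicit false
universe u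
open CategoryTheory MonoidalCategory CartesianMonoidalCategory MonObj GrpObj AlgebraicGeometry CategoryTheory.Limits

namespace K399.BorelG

open Groth.Agent Groth.Agent.Books.AffBridge Groth.Agent.Books.AffBridge2 Groth.Agent.Sga3B.RG
open Groth.Agent.Sga3B.RG.BrPts Groth.Agent.Sga3B.Parab.BorelPts172

variable {k : Type u} [Field k] [IsAlgClosed k]

/-- A morphism from a reduced scheme mapping the rational points into a closed subscheme factors. -/
theorem exists_factor_pts {X Y Z : Over (Spec (CommRingCat.of k))} [LocallyOfFiniteType X.hom] [QuasiCompact X.hom]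
    [IsReduced X.left] (c : X ⟶ Y) (j : Z ⟶ Y) [IsClosedImmersion j.left]
    (h : ∀ x : 𝟙_ (Over (Spec (CommRingCat.of k))) ⟶ X, ∃ z : 𝟙_ (Over (Spec (CommRingCat.of k))) ⟶ Z,
      z ≫ j = x ≫ c) : ∃ e : X ⟶ Z, e ≫ j = c := by
  let P := pullback c j
  have hP : IsPullback (pullback.fst c j) (pullback.snd c j) c j := IsPullback.of_hasPullback c j
  have hcl : IsClosedImmersion (pullback.fst c j).left :=
    MorphismProperty.of_isPullback (P := @IsClosedImmersion) (hP.map (Over.forget _)).flip ‹_›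
  have hlft : LocallyOfFiniteType (pullback c j).hom := by rw [← Over.w (pullback.fst c j)]; infer_instance
  have hqc : QuasiCompact (pullback c j).hom := by rw [← Over.w (pullback.fst c j)]; infer_instance
  have hs : Surjective (pullback.fst c j).left := K398.Pts.surjective_of_forall_pt _ (fun x => by
    obtain ⟨z, hz⟩ := h x
    exact ⟨pullback.lift x z hz.symm, pullback.lift_fst _ _ _⟩)
  have hi : IsIso (pullback.fst c j) := K398.Pts.isIso_of_closed_surjective _
  exact ⟨inv (pullback.fst c j) ≫ pullback.snd c j, by rw [Category.assoc, ← pullback.condition,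
    IsIso.inv_hom_id_assoc]⟩

/-- A smooth connected solvable closed subgroup of an affine group is contained in a Borel subgroup. -/
theorem exists_borel_ge {L C : Over (Spec (CommRingCat.of k))} [GrpObj L] [GrpObj C] [IsAffine L.left] [Smooth L.hom]
    [ConnectedSpace L.left] (c : C ⟶ L) [IsMonHom c] [IsClosedImmersion c.left] [Smooth C.hom] [ConnectedSpace C.left]
    (hC : Red.IsSolvableGrp C) :
    ∃ (B : Over (Spec (CommRingCat.of k))) (_ : GrpObj B) (b : B ⟶ L) (f : C ⟶ B), Red.IsBorelOver k b ∧ f ≫ b = c := by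
  obtain ⟨A, _, _, e, he, hft, hdom⟩ :=
    Groth.Agent.Agf.H582.ConjDict.exists_hopf_of_connected (K := k) L
  have hei : IsIso e.hom.left := inferInstanceAs (IsIso ((Over.forget _).mapIso e).hom)
  have hcl : IsClosedImmersion (c ≫ e.hom).left := by rw [Over.comp_left]; infer_instance
  have h1 := isCCS_ptsSub (c ≫ e.hom) hC
  obtain ⟨B₀, hB₀, hle⟩ := h1.exists_isBorelPt
  obtain ⟨B, _, b, hb, hB, rfl⟩ := hB₀.exists_scheme
  have hbc := hB.2.1
  obtain ⟨f, hf⟩ := exists_factor_of_le (c ≫ e.hom) b hle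
  have hinv : IsMonHom e.symm.hom := inferInstanceAs (IsMonHom e.inv)
  refine ⟨B, inferInstance, b ≫ e.symm.hom, f, Groth.Agent.Agf.H582.ConjDict.isBorelOver_comp_iso b e.symm hB, ?_⟩
  rw [← Category.assoc, hf, Category.assoc]
  simp

/-- Products of solvable groups are solvable. -/
theorem isSolvableGrp_tensor {S : Scheme.{u}} {A B : Over S} [GrpObj A] [GrpObj B] (hA : Red.IsSolvableGrp A)
    (hB : Red.IsSolvableGrp B) : Red.IsSolvableGrp (A ⊗ B) := by
  obtain ⟨n, hn⟩ := hA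
  obtain ⟨m, hm⟩ := hB
  refine ⟨n + m, fun X => ?_⟩
  rw [eq_bot_iff]
  intro x hx
  rw [Subgroup.mem_bot]
  let p : (X ⟶ A ⊗ B) →* (X ⟶ A) := MonoidHom.mk' (fun x => x ≫ fst A B) (fun a b => MonObj.mul_comp a b _)
  let q : (X ⟶ A ⊗ B) →* (X ⟶ B) := MonoidHom.mk' (fun x => x ≫ snd A B) (fun a b => MonObj.mul_comp a b _)
  have h1 : p x ∈ derivedSeries (X ⟶ A) (n + m) :=
    map_derivedSeries_le_derivedSeries p (n + m) ⟨x, hx, rfl⟩
  have h2 : q x ∈ derivedSeries (X ⟶ B) (n + m) :=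
    map_derivedSeries_le_derivedSeries q (n + m) ⟨x, hx, rfl⟩
  have h3 : derivedSeries (X ⟶ A) (n + m) = ⊥ :=
    eq_bot_iff.2 ((derivedSeries_antitone (X ⟶ A) (Nat.le_add_right n m)).trans (hn X).le)
  have h4 : derivedSeries (X ⟶ B) (n + m) = ⊥ :=
    eq_bot_iff.2 ((derivedSeries_antitone (X ⟶ B) (Nat.le_add_left m n)).trans (hm X).le)
  rw [h3, Subgroup.mem_bot] at h1
  rw [h4, Subgroup.mem_bot] at h2
  apply CartesianMonoidalCategory.hom_ext
  · rw [MonObj.one_comp]; exact h1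
  · rw [MonObj.one_comp]; exact h2

theorem isSolvableGrp_of_comm {S : Scheme.{u}} (A : Over S) [GrpObj A] [IsCommMonObj A] : Red.IsSolvableGrp A := by
  refine ⟨1, fun X => ?_⟩
  have h : (⊤ : Subgroup (X ⟶ A)) ≤ Subgroup.center (X ⟶ A) := by
    intro x _
    rw [Subgroup.mem_center_iff]
    intro y
    exact mul_comm y x
  rw [derivedSeries_one]
  rw [commutator_def, Subgroup.commutator_eq_bot_iff_le_centralizer]
  intro x _
  rw [Subgroup.mem_centralizer_iff]
  intro y _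
  exact mul_comm y x

theorem connectedSpace_tensor (G H : Over (Spec (CommRingCat.of k))) [GrpObj G] [ConnectedSpace G.left]
    [Smooth G.hom] [GrpObj H] [Smooth H.hom] [ConnectedSpace H.left] : ConnectedSpace (G ⊗ H).left := by
  have hG := Basic.geometricallyIntegral G
  have hH := Basic.isIntegral H
  have : IrreducibleSpace ↥(pullback G.hom H.hom) := inferInstance
  exact inferInstanceAs (ConnectedSpace ↥(pullback G.hom H.hom))

theorem smooth_tensor (X Y : Over (Spec (CommRingCat.of k))) [Smooth X.hom] [Smooth Y.hom] :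
    Smooth (X ⊗ Y).hom := by
  change Smooth (pullback.fst X.hom Y.hom ≫ X.hom)
  infer_instance

theorem quasiCompact_tensor (X Y : Over (Spec (CommRingCat.of k))) [QuasiCompact X.hom] [QuasiCompact Y.hom] :
    QuasiCompact (X ⊗ Y).hom := by
  change QuasiCompact (pullback.fst X.hom Y.hom ≫ X.hom)
  infer_instance

/-- A Borel subgroup of `G = N · M` is `B · M` with `B` a Borel subgroup of `N`. -/
theorem exists_borel_mul {G N M L : Over (Spec (CommRingCat.of k))} [GrpObj G] [GrpObj N] [GrpObj M] [GrpObj L]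
    [Smooth G.hom] [QuasiCompact G.hom] [ConnectedSpace G.left]
    (i : N ⟶ G) [IsMonHom i] [Smooth N.hom] [ConnectedSpace N.left] [IsAffine N.left]
    (j : M ⟶ G) [IsMonHom j] [Smooth M.hom] [ConnectedSpace M.left]
    [QuasiCompact M.hom] [IsCommMonObj M]
    (hc : ∀ (T : Over (Spec (CommRingCat.of k))) (x : T ⟶ N) (y : T ⟶ M), (x ≫ i) * (y ≫ j) = (y ≫ j) * (x ≫ i))
    (hs : Surjective ((i ⊗ₘ j) ≫ μ[G]).left)
    (q : G ⟶ L) [IsMonHom q] [Flat q.left] [Surjective q.left] [IsAffine L.left] [LocallyOfFiniteType L.hom]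
    (hk : AlgGrp.IsKernel j q)
    (H : Over (Spec (CommRingCat.of k))) [GrpObj H] (h : H ⟶ G) (hH : Red.IsBorelOver k h) :
    ∃ (B : Over (Spec (CommRingCat.of k))) (_ : GrpObj B) (b : B ⟶ N) (f : B ⟶ H) (f' : M ⟶ H),
      Red.IsBorelOver k b ∧ f ≫ h = b ≫ i ∧ f' ≫ h = j ∧ Surjective ((f ⊗ₘ f') ≫ μ[H]).left := by
  obtain ⟨hm, hcl, hsm, hcn, hsv, hmax⟩ := hH
  have hNq : QuasiCompact N.hom := inferInstance
  have hLs : Smooth L.hom := K398.Pts.smooth_of_flat_surjective q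
  have hLc : ConnectedSpace L.left := K398.Pts.connectedSpace_of_surjective q
  have hqi : Surjective (i ≫ q).left := by
    have hLq : QuasiCompact L.hom := inferInstance
    refine K398.Pts.surjective_of_forall_pt _ (fun y => ?_)
    obtain ⟨g, hg⟩ := K398.Pts.exists_lift q y
    have hNMl : LocallyOfFiniteType (N ⊗ M).hom := by
      have := smooth_tensor N M
      infer_instance
    obtain ⟨z, hz⟩ := K398.Pts.exists_lift ((i ⊗ₘ j) ≫ μ[G]) g
    refine ⟨z ≫ fst N M, ?_⟩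
    rw [← hg, ← hz, K404.AbAff.comp_mulMap, MonObj.mul_comp, ← Category.assoc z (snd N M) j, K400.Basic.kernel_comp hk, _root_.mul_one]
    simp only [Category.assoc]
  have hHq : QuasiCompact H.hom := by rw [← Over.w h]; infer_instance
  obtain ⟨C, _, p, c, hp, hc', hpc, hpf, hps, hpl, hcc⟩ := K398.Pts.exists_image (h ≫ q)
  have hCl : LocallyOfFiniteType C.hom := by rw [← Over.w c]; infer_instance
  have hCs : Smooth C.hom := K398.Pts.smooth_of_flat_surjective p
  have hCc : ConnectedSpace C.left := K398.Pts.connectedSpace_of_surjective p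
  have hCq : QuasiCompact C.hom := K398.Pts.quasiCompact_of_surjective p
  have hCv : Red.IsSolvableGrp C := S7997.result k H C p hsv
  obtain ⟨D, _, d, f0, hD, hf0⟩ := exists_borel_ge c hCv
  obtain ⟨B, _, b, p', hB, hp', hpb⟩ := Agf.H623.BorelSch.exists_borel_mapping_onto N L (i ≫ q) D d hD
  have hBm := hB.1
  have hBcl := hB.2.1
  have hBs := hB.2.2.1
  have hBc := hB.2.2.2.1
  have hBq : QuasiCompact B.hom := by rw [← Over.w b]; infer_instance
  have hBl : LocallyOfFiniteType B.hom := inferInstance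
  have hDl : LocallyOfFiniteType D.hom := by
    have := hD.2.2.1
    infer_instance
  have hmm : IsMonHom (((b ≫ i) ⊗ₘ j) ≫ μ[G]) := K404.AbAff.isMonHom_mul (b ≫ i) j (fun T x y => by
    have := hc T (x ≫ b) y
    simpa only [Category.assoc] using this)
  have hBMs := smooth_tensor B M
  have hBMc := connectedSpace_tensor B M
  have hBMq := quasiCompact_tensor B M
  obtain ⟨E, _, r, ε, hr, hε, hrε, hrf, hrs, hrl, hεc⟩ := K398.Pts.exists_image (((b ≫ i) ⊗ₘ j) ≫ μ[G])
  have hEl : LocallyOfFiniteType E.hom := by rw [← Over.w ε]; infer_instance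
  have hEs : Smooth E.hom := K398.Pts.smooth_of_flat_surjective r
  have hEc : ConnectedSpace E.left := K398.Pts.connectedSpace_of_surjective r
  have hEq : QuasiCompact E.hom := K398.Pts.quasiCompact_of_surjective r
  have hEv : Red.IsSolvableGrp E :=
    S7997.result k (B ⊗ M) E r (isSolvableGrp_tensor hB.2.2.2.2.1 (isSolvableGrp_of_comm M))
  have hHr : IsReduced H.left := Books.AlgPtsSmooth.isReduced_of_smooth H
  obtain ⟨e, he⟩ := exists_factor_pts h ε (fun x => by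
    obtain ⟨y, hy⟩ := K398.Pts.exists_lift p' (x ≫ p ≫ f0)
    have h1 : (x ≫ h) ≫ q = (y ≫ b ≫ i) ≫ q := by
      have h2 : x ≫ p ≫ f0 ≫ d = (x ≫ h) ≫ q := by rw [hf0, hpc, Category.assoc]
      rw [← h2, ← Category.assoc p, ← Category.assoc x, ← hy, Category.assoc, hpb]
      simp only [Category.assoc]
    have h3 : ((y ≫ b ≫ i)⁻¹ * (x ≫ h)) ≫ q = 1 := by
      rw [MonObj.mul_comp, GrpObj.inv_comp, h1, inv_mul_cancel]
    obtain ⟨m, hm'⟩ := (K400.Basic.kernel_iff hk _).1 h3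
    refine ⟨lift y m ≫ r, ?_⟩
    rw [Category.assoc, hrε, K404.AbAff.lift_mulMap, hm', mul_inv_cancel_left])
  have hie : IsIso e := hmax E ε e hεc hEs hEc hEv he
  have hmono : Mono ε := Books.AlgPtsGrp.mono_of_isClosedImmersion ε
  have hmonoh : Mono h := Books.AlgPtsGrp.mono_of_isClosedImmersion h
  let f : B ⟶ H := lift (𝟙 B) 1 ≫ r ≫ inv e
  let f' : M ⟶ H := lift 1 (𝟙 M) ≫ r ≫ inv e
  have he' : inv e ≫ h = ε := by rw [← he, IsIso.inv_hom_id_assoc]
  have hf : f ≫ h = b ≫ i := by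
    simp only [f]
    rw [Category.assoc, Category.assoc, he', hrε, K404.AbAff.lift_mulMap, MonObj.one_comp, _root_.mul_one,
      Category.id_comp]
  have hf' : f' ≫ h = j := by
    simp only [f']
    rw [Category.assoc, Category.assoc, he', hrε, K404.AbAff.lift_mulMap, MonObj.one_comp, _root_.one_mul,
      Category.id_comp]
  clear_value f f'
  refine ⟨B, inferInstance, b, f, f', hB, hf, hf', ?_⟩
  have h5 : (f ⊗ₘ f') ≫ μ[H] = r ≫ inv e := by
    have e1 := K404.AbAff.comp_mulMap f f' (𝟙 (B ⊗ M))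
    have e2 := K404.AbAff.comp_mulMap (b ≫ i) j (𝟙 (B ⊗ M))
    simp only [Category.id_comp] at e1 e2
    have h7 : (r ≫ inv e) ≫ h = ((b ≫ i) ⊗ₘ j) ≫ μ[G] := by rw [Category.assoc, he', hrε]
    rw [← cancel_mono h, h7, e1, e2, MonObj.mul_comp, Category.assoc, Category.assoc, hf, hf']
  rw [h5, Over.comp_left]
  have : IsIso (inv e).left := inferInstanceAs (IsIso ((Over.forget _).map (inv e)))
  infer_instance

theorem comp_conjBy {S : Scheme.{u}} {G H : Over S} [GrpObj G] (g : 𝟙_ (Over S) ⟶ G) (i : H ⟶ G)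
    (x : 𝟙_ (Over S) ⟶ H) : x ≫ AGF.conjBy g i = g * (x ≫ i) * g⁻¹ := by
  have h1 : x ≫ toUnit H = 𝟙 _ := toUnit_unique _ _
  rw [AGF.conjBy, MonObj.comp_mul, MonObj.comp_mul, GrpObj.comp_inv, ← Category.assoc, h1, Category.id_comp]

/-- The Borel subgroups of `G = N · M` are conjugate. -/
theorem exists_conj {G N M : Over (Spec (CommRingCat.of k))} [GrpObj G] [GrpObj N] [GrpObj M]
    [Smooth G.hom] [QuasiCompact G.hom]
    (i : N ⟶ G) [IsMonHom i] [Smooth N.hom] [ConnectedSpace N.left] [IsAffine N.left]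
    (j : M ⟶ G) [Smooth M.hom] [QuasiCompact M.hom]
    (hc : ∀ (T : Over (Spec (CommRingCat.of k))) (x : T ⟶ G) (y : T ⟶ M), x * (y ≫ j) = (y ≫ j) * x)
    {H B : Over (Spec (CommRingCat.of k))} [GrpObj H] [GrpObj B] (h : H ⟶ G) (hH : Red.IsBorelOver k h)
    (b : B ⟶ N) (f : B ⟶ H) (f' : M ⟶ H) (hB : Red.IsBorelOver k b) (hf : f ≫ h = b ≫ i) (hf' : f' ≫ h = j)
    {H₂ B₂ : Over (Spec (CommRingCat.of k))} [GrpObj H₂] [GrpObj B₂] (h₂ : H₂ ⟶ G) (hH₂ : Red.IsBorelOver k h₂)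
    (b₂ : B₂ ⟶ N) (g : B₂ ⟶ H₂) (g' : M ⟶ H₂) (hB₂ : Red.IsBorelOver k b₂) (hg : g ≫ h₂ = b₂ ≫ i) (hg' : g' ≫ h₂ = j)
    (hs : Surjective ((g ⊗ₘ g') ≫ μ[H₂]).left) :
    ∃ (g : 𝟙_ (Over (Spec (CommRingCat.of k))) ⟶ G) (e : H₂ ≅ H), e.hom ≫ h = AGF.conjBy g h₂ := by
  obtain ⟨x, φ, hφ⟩ := S3900.result k N B₂ B b₂ b hB₂ hB
  have hBu := K492.Basic.isBorelOver_conjBy hH₂ (x ≫ i)
  have hmH := hH.1
  have hclH := hH.2.1
  have hsmH := hH.2.2.1
  have hmH₂ := hH₂.1
  have hclH₂ := hH₂.2.1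
  have hsmH₂ := hH₂.2.2.1
  have hq : QuasiCompact H₂.hom := by rw [← Over.w h₂]; infer_instance
  have hr : IsReduced H₂.left := Books.AlgPtsSmooth.isReduced_of_smooth H₂
  have hB₂s := hB₂.2.2.1
  have hBMs := smooth_tensor B₂ M
  obtain ⟨e, he⟩ := exists_factor_pts (AGF.conjBy (x ≫ i) h₂) h (fun y => by
    obtain ⟨z, hz⟩ := K398.Pts.exists_lift ((g ⊗ₘ g') ≫ μ[H₂]) y
    refine ⟨(z ≫ fst B₂ M ≫ φ.hom ≫ f) * (z ≫ snd B₂ M ≫ f'), ?_⟩
    rw [comp_conjBy, ← hz, K404.AbAff.comp_mulMap, MonObj.mul_comp, MonObj.mul_comp]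
    have h1 : (z ≫ fst B₂ M ≫ φ.hom ≫ f) ≫ h = (x ≫ i) * ((z ≫ fst B₂ M ≫ g) ≫ h₂) * (x ≫ i)⁻¹ := by
      have h2 : (z ≫ fst B₂ M ≫ φ.hom ≫ f) ≫ h = ((z ≫ fst B₂ M) ≫ φ.hom ≫ b) ≫ i := by
        simp only [Category.assoc, hf]
      rw [h2, hφ, comp_conjBy, MonObj.mul_comp, MonObj.mul_comp, GrpObj.inv_comp]
      simp only [Category.assoc, hg]
    have h3 : (z ≫ snd B₂ M ≫ f') ≫ h = (z ≫ snd B₂ M) ≫ j := by simp only [Category.assoc, hf']
    have h4 : (z ≫ snd B₂ M ≫ g') ≫ h₂ = (z ≫ snd B₂ M) ≫ j := by simp only [Category.assoc, hg']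
    rw [h1, h3, h4]
    have h5 := hc _ (x ≫ i)⁻¹ (z ≫ snd B₂ M)
    simp only [_root_.mul_assoc]
    rw [h5])
  have hie : IsIso e := hBu.2.2.2.2.2 H h e hclH hsmH hH.2.2.2.1 hH.2.2.2.2.1 he
  exact ⟨x ≫ i, asIso e, he⟩

end K399.BorelG
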