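import Mathlib.AlgebraicGeometry.Group.Abelian
import Mathlib.CategoryTheory.Monoidal.Cartesian.Over
import Mathlib.CategoryTheory.Monoidal.Cartesian.Grp

/-!
# Morphisms from schemes with only constant functions to affine schemes
-/

set_option autoImplicit false
universe u
open CategoryTheory MonoidalCategory CartesianMonoidalCategory MonObj GrpObj AlgebraicGeometry CategoryTheory.Limits

namespace K399.Const

variable {k : Type u} [Field k]

/-- the form of anti-affineness used in the statements -/
theorem isIso_of_bijective {X : Over (Spec (CommRingCat.of k))}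
    (h : Function.Bijective ((Scheme.ΓSpecIso (CommRingCat.of k)).inv ≫ X.hom.appTop).hom) :
    IsIso X.hom.appTop := by
  have : IsIso ((Scheme.ΓSpecIso (CommRingCat.of k)).inv ≫ X.hom.appTop) :=
    (ConcreteCategory.isIso_iff_bijective _).mpr h
  exact IsIso.of_isIso_comp_left (Scheme.ΓSpecIso (CommRingCat.of k)).inv _

theorem bijective_of_isIso {X : Over (Spec (CommRingCat.of k))} [IsIso X.hom.appTop] :
    Function.Bijective ((Scheme.ΓSpecIso (CommRingCat.of k)).inv ≫ X.hom.appTop).hom :=
  (ConcreteCategory.isIso_iff_bijective _).mp inferInstance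

/-- Pullback of functions along a rational point of a scheme with constant functions is an isomorphism. -/
theorem isIso_pt_appTop {X : Over (Spec (CommRingCat.of k))} [IsIso X.hom.appTop]
    (x : 𝟙_ (Over (Spec (CommRingCat.of k))) ⟶ X) : IsIso x.left.appTop := by
  have h1 : x.left ≫ X.hom = 𝟙 _ := Over.w x
  have h2 : X.hom.appTop ≫ x.left.appTop = 𝟙 _ := by
    rw [← Scheme.Hom.comp_appTop, h1]; simp
  have h3 : x.left.appTop = inv X.hom.appTop := by
    rw [← cancel_epi X.hom.appTop, h2]; simp
  rw [h3]; infer_instance

/-- Two morphisms to an affine scheme from a scheme with constant functions agree if they agree at one rational point. -/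
theorem ext_of_pt {X Y : Over (Spec (CommRingCat.of k))} [IsIso X.hom.appTop] [IsAffine Y.left]
    (x : 𝟙_ (Over (Spec (CommRingCat.of k))) ⟶ X) {f g : X ⟶ Y} (h : x ≫ f = x ≫ g) : f = g := by
  ext1
  apply ext_of_isAffine
  have := isIso_pt_appTop x
  rw [← cancel_mono x.left.appTop, ← Scheme.Hom.comp_appTop, ← Scheme.Hom.comp_appTop, ← Over.comp_left,
    ← Over.comp_left, h]

/-- A morphism to an affine scheme from a scheme with constant functions and a rational point is constant. -/
theorem eq_const {X Y : Over (Spec (CommRingCat.of k))} [IsIso X.hom.appTop] [IsAffine Y.left]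
    (x : 𝟙_ (Over (Spec (CommRingCat.of k))) ⟶ X) (f : X ⟶ Y) : f = toUnit X ≫ x ≫ f := by
  apply ext_of_pt x
  rw [← Category.assoc x (toUnit X), toUnit_unique (x ≫ toUnit X) (𝟙 _), Category.id_comp]

end K399.Const
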