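import Groth.Agent.Ega4B.DimFT2
import Groth.Agent.Flat2F.FlatIndep
import Mathlib.RingTheory.Valuation.ValuationRing
import Mathlib.RingTheory.Flat.TorsionFree

/-!
# The centre of a divisorial valuation on a birational model (algebra)

`exists_model`: `R` a valuation ring over a field `k` with `trdeg κ(R) ≥ trdeg R - 1`, `B ⊆ R` a finitely
generated subalgebra. Then there is a finitely generated subalgebra `B ⊆ B' ⊆ R`, `B' ⊆ Frac B`, such that the
centre of `R` on `B'` has height at most one.
-/

set_option autoImplicit false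
universe u

open IsLocalRing

namespace K399.DivAlg

section V

variable {k R B : Type u} [Field k] [CommRing R] [IsDomain R] [ValuationRing R] [Algebra k R]
  [CommRing B] [IsDomain B] [Algebra k B] (β : B →ₐ[k] R)

/-- `R ∩ Frac B` -/
def V : Subalgebra k R where
  carrier := {r | ∃ s a : B, s ≠ 0 ∧ β s * r = β a}
  mul_mem' := by
    rintro x y ⟨s, a, hs, ha⟩ ⟨t, b, ht, hb⟩
    exact ⟨s * t, a * b, mul_ne_zero hs ht, by rw [map_mul, map_mul, ← ha, ← hb]; ring⟩
  add_mem' := by
    rintro x y ⟨s, a, hs, ha⟩ ⟨t, b, ht, hb⟩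
    exact ⟨s * t, a * t + s * b, mul_ne_zero hs ht, by
      rw [map_mul, map_add, map_mul, map_mul, ← ha, ← hb]; ring⟩
  algebraMap_mem' c := ⟨1, algebraMap k B c, one_ne_zero, by simp⟩

theorem mem_V {r : R} : r ∈ V β ↔ ∃ s a : B, s ≠ 0 ∧ β s * r = β a := Iff.rfl

theorem range_le_V : β.range ≤ V β := by
  rintro _ ⟨b, rfl⟩
  exact ⟨1, b, one_ne_zero, by simp⟩

variable (hβ : Function.Injective β)
include hβ

theorem div_mem {x c : R} (hx : x ∈ V β) (hx0 : x ≠ 0) (hy : x * c ∈ V β) : c ∈ V β := by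
  obtain ⟨s, a, hs, ha⟩ := hx
  obtain ⟨t, b, ht, hb⟩ := hy
  have ha0 : a ≠ 0 := by
    rintro rfl
    rw [map_zero] at ha
    rcases mul_eq_zero.mp ha with h | h
    · exact hs (hβ (by rw [h, map_zero]))
    · exact hx0 h
  refine ⟨t * a, s * b, mul_ne_zero ht ha0, ?_⟩
  rw [map_mul, map_mul, ← ha, ← hb]
  ring

theorem valuationRing_V : ValuationRing (V β) := by
  rw [ValuationRing.iff_dvd_total]
  refine ⟨fun x y => ?_⟩
  rcases eq_or_ne x 0 with rfl | hx
  · exact Or.inr (dvd_zero y)
  rcases eq_or_ne y 0 with rfl | hy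
  · exact Or.inl (dvd_zero x)
  rcases (ValuationRing.iff_dvd_total.mp ‹ValuationRing R›).total (x : R) (y : R) with ⟨c, hc⟩ | ⟨c, hc⟩
  · left
    have h1 : c ∈ V β := div_mem β hβ x.2 (by simpa using hx) (by rw [← hc]; exact y.2)
    exact ⟨⟨c, h1⟩, Subtype.ext hc⟩
  · right
    have h1 : c ∈ V β := div_mem β hβ y.2 (by simpa using hy) (by rw [← hc]; exact x.2)
    exact ⟨⟨c, h1⟩, Subtype.ext hc⟩

theorem isLocalHom_V [IsLocalRing (V β)] : IsLocalHom (algebraMap (V β) R) := by
  refine ⟨fun v hv => ?_⟩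
  obtain ⟨w, hw⟩ := hv.exists_right_inv
  have h0 : (v : R) ≠ 0 := by
    intro h
    rw [show algebraMap (V β) R v = (v : R) from rfl, h, zero_mul] at hw
    exact zero_ne_one hw
  have h1 : w ∈ V β := div_mem β hβ v.2 h0 (by
    rw [show (v : R) * w = 1 from hw]; exact one_mem _)
  exact IsUnit.of_mul_eq_one ⟨w, h1⟩ (Subtype.ext hw)

end V

open Algebra in
/-- A subalgebra between `B` and `R ∩ Frac B` has the transcendence degree of `B`. -/
theorem trdeg_sub {k R B : Type u} [Field k] [CommRing R] [IsDomain R] [Algebra k R]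
    [CommRing B] [IsDomain B] [Algebra k B] (β : B →ₐ[k] R) (hβ : Function.Injective β)
    (W : Subalgebra k R) (h1 : β.range ≤ W) (h2 : W ≤ V β) : trdeg k W = trdeg k B := by
  let γ : B →ₐ[k] W := (Subalgebra.inclusion h1).comp β.rangeRestrict
  have hγ : Function.Injective γ := by
    intro x y hxy
    apply hβ
    exact congrArg (fun z : W => (z : R)) hxy
  algebraize [γ.toRingHom]
  have hst : IsScalarTower k B W := .of_algebraMap_eq' (by
    ext x; simp [RingHom.algebraMap_toAlgebra])
  have hfB : FaithfulSMul B W := (faithfulSMul_iff_algebraMap_injective _ _).mpr hγ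
  have halg : Algebra.IsAlgebraic B W := by
    refine ⟨fun v => ?_⟩
    obtain ⟨s, a, hs, ha⟩ := h2 v.2
    refine ⟨Polynomial.C s * Polynomial.X - Polynomial.C a, ?_, ?_⟩
    · intro h
      have := congrArg (fun p => p.coeff 1) h
      simp at this
      exact hs this
    · apply Subtype.ext
      simp only [map_sub, map_mul, Polynomial.aeval_C, Polynomial.aeval_X]
      change β s * (v : R) - β a = 0
      rw [ha, sub_self]
  have h := trdeg_add_eq k B (A := W)
  rw [trdeg_eq_zero (R := B) (A := W), add_zero] at h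
  exact h.symm

open Algebra in
/-- The residue field of `R ∩ Frac B` is large. -/
theorem trdeg_residue {k R B : Type u} [Field k] [CommRing R] [IsDomain R] [ValuationRing R] [Algebra k R]
    [CommRing B] [IsDomain B] [Algebra k B] (β : B →ₐ[k] R) (hβ : Function.Injective β)
    (N n : ℕ) (hN : trdeg k R = N) (hn : trdeg k B = n)
    (hres : (N : Cardinal) ≤ trdeg k (ResidueField R) + 1) [hVl : IsLocalRing (V β)]
    [IsLocalHom (algebraMap (V β) R)] :
    (n : Cardinal) ≤ trdeg k (ResidueField (V β)) + 1 := by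
  have hval := valuationRing_V β hβ
  have hflat : Module.Flat (V β) R := by
    rw [Module.Flat.flat_iff_torsion_eq_bot_of_isBezout, ← Submodule.isTorsionFree_iff_torsion_eq_bot]
    infer_instance
  have h1 : trdeg k (V β) = n := (trdeg_sub β hβ (V β) (range_le_V β) le_rfl).trans hn
  have h2 := trdeg_add_eq k (V β) (A := R)
  rw [h1, hN] at h2
  have h3 := trdeg_add_eq k (ResidueField (V β)) (A := ResidueField R)
  have h4 := Groth.Agent.Flat2F.FlatIndep.le_trdeg_of_flat (A := V β) (B := R) 0 (by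
    have : Nontrivial (R ⧸ (maximalIdeal (V β)).map (algebraMap (V β) R)) := by
      rw [Ideal.Quotient.nontrivial_iff]
      intro h
      have h5 : (maximalIdeal (V β)).map (algebraMap (V β) R) ≤ maximalIdeal R := by
        rw [Ideal.map_le_iff_le_comap]
        exact (((local_hom_TFAE (algebraMap (V β) R)).out 0 3).mp ‹_›)
      rw [h, top_le_iff] at h5
      exact (maximalIdeal.isMaximal R).ne_top h5
    exact ringKrullDim_nonneg_of_nontrivial)
  rw [Nat.cast_zero, zero_add] at h4
  obtain ⟨t, ht⟩ : ∃ t : ℕ, trdeg (V β) R = t := Cardinal.lt_aleph0.mp (lt_of_le_of_lt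
    (by rw [← h2]; exact self_le_add_left _ _) (Cardinal.natCast_lt_aleph0 (n := N)))
  obtain ⟨b, hb⟩ : ∃ b : ℕ, trdeg (ResidueField (V β)) (ResidueField R) = b := Cardinal.lt_aleph0.mp
    (lt_of_le_of_lt h4 (by rw [ht]; exact Cardinal.natCast_lt_aleph0))
  rcases lt_or_ge (trdeg k (ResidueField (V β))) Cardinal.aleph0 with h5 | h5
  · obtain ⟨a, ha⟩ := Cardinal.lt_aleph0.mp h5
    rw [← h3, ha, hb] at hres
    rw [ht] at h2
    rw [ht, hb] at h4
    rw [ha]
    norm_cast at *
    omega
  · exact (Cardinal.natCast_lt_aleph0.le.trans h5).trans (self_le_add_right _ _)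

/-- the elements which become elements of `B` after multiplication by a power of `s` -/
def powSub {k R B : Type u} [Field k] [CommRing R] [Algebra k R] [CommRing B] [Algebra k B] (β : B →ₐ[k] R)
    (s : B) : Subalgebra k R where
  carrier := {x | ∃ n : ℕ, β s ^ n * x ∈ β.range}
  mul_mem' := by
    rintro x y ⟨n, hx⟩ ⟨m, hy⟩
    refine ⟨n + m, ?_⟩
    have := mul_mem hx hy
    rwa [mul_mul_mul_comm, ← pow_add] at this
  add_mem' := by
    rintro x y ⟨n, hx⟩ ⟨m, hy⟩
    refine ⟨n + m, ?_⟩
    have hs : ∀ j : ℕ, β s ^ j ∈ β.range := fun j => ⟨s ^ j, by simp⟩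
    have h1 := add_mem (mul_mem (hs m) hx) (mul_mem (hs n) hy)
    have h2 : β s ^ (n + m) * (x + y) = β s ^ m * (β s ^ n * x) + β s ^ n * (β s ^ m * y) := by ring
    rw [h2]
    exact h1
  algebraMap_mem' c := ⟨0, by simpa using β.range.algebraMap_mem c⟩

open Algebra in
theorem exists_model {k R B : Type u} [Field k] [CommRing R] [IsDomain R] [ValuationRing R] [Algebra k R]
    [CommRing B] [IsDomain B] [Algebra k B] [Algebra.FiniteType k B] (β : B →ₐ[k] R) (hβ : Function.Injective β)
    (N : ℕ) (hN : trdeg k R = N) (hres : (N : Cardinal) ≤ trdeg k (ResidueField R) + 1) :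
    ∃ B' : Subalgebra k R, B'.FG ∧ β.range ≤ B' ∧ (∃ s : B, s ≠ 0 ∧ ∀ x ∈ B', ∃ n : ℕ, β s ^ n * x ∈ β.range) ∧
      ((maximalIdeal R).comap B'.val).height ≤ 1 := by
  obtain ⟨-, n, -, hn, -⟩ := Groth.Agent.Ega4B.DimFT2.exists_height_add_trdeg k B ⊥
  have hval := valuationRing_V β hβ
  have hloc := isLocalHom_V β hβ
  have h1 := trdeg_residue β hβ N n hN hn hres
  -- lifts of algebraically independent elements
  have h2 : ((n - 1 : ℕ) : Cardinal) ≤ trdeg k (ResidueField (V β)) := by
    rcases lt_or_ge (trdeg k (ResidueField (V β))) Cardinal.aleph0 with h5 | h5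
    · obtain ⟨a, ha⟩ := Cardinal.lt_aleph0.mp h5
      rw [ha] at h1 ⊢
      norm_cast at *
      omega
    · exact Cardinal.natCast_lt_aleph0.le.trans h5
  obtain ⟨c, hc⟩ : ∃ c : Fin (n - 1) → ResidueField (V β), AlgebraicIndependent k c := by
    obtain ⟨ι, x, hx⟩ := exists_isTranscendenceBasis' k (ResidueField (V β))
    rw [← hx.cardinalMk_eq_trdeg] at h2
    have h3 : Cardinal.lift.{u} (Cardinal.mk (Fin (n - 1))) ≤ Cardinal.lift.{0} (Cardinal.mk ι) := by
      simpa using h2
    obtain ⟨e⟩ := Cardinal.lift_mk_le'.mp h3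
    exact ⟨x ∘ e, hx.1.comp e e.injective⟩
  obtain ⟨b, hb⟩ : ∃ b : Fin (n - 1) → V β, ∀ i, residue (V β) (b i) = c i :=
    ⟨fun i => (residue_surjective (c i)).choose, fun i => (residue_surjective (c i)).choose_spec⟩
  -- the model
  let B' : Subalgebra k R := β.range ⊔ Algebra.adjoin k (Set.range fun i => (b i : R))
  have hBV : B' ≤ V β := by
    refine sup_le (range_le_V β) (Algebra.adjoin_le ?_)
    rintro _ ⟨i, rfl⟩
    exact (b i).2
  have hfg : B'.FG := by
    refine Subalgebra.FG.sup ?_ ?_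
    · rw [Subalgebra.fg_iff_finiteType]
      exact Algebra.FiniteType.of_surjective β.rangeRestrict β.rangeRestrict_surjective
    · refine ⟨(Set.finite_range fun i => (b i : R)).toFinset, ?_⟩
      rw [Set.Finite.coe_toFinset]
  have hbB : ∀ i, (b i : R) ∈ B' := fun i =>
    (le_sup_right : _ ≤ B') (Algebra.subset_adjoin ⟨i, rfl⟩)
  refine ⟨B', hfg, le_sup_left, ?_, ?_⟩
  · choose s a hs ha using fun i => (b i).2
    refine ⟨∏ i, s i, Finset.prod_ne_zero_iff.mpr fun i _ => hs i, ?_⟩
    suffices h : B' ≤ powSub β (∏ i, s i) from h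
    refine sup_le (fun x hx => ⟨0, by simpa using hx⟩) (Algebra.adjoin_le ?_)
    rintro _ ⟨i, rfl⟩
    refine ⟨1, ⟨(∏ j ∈ Finset.univ.erase i, s j) * a i, ?_⟩⟩
    have h4 : (∏ j, s j) = (∏ j ∈ Finset.univ.erase i, s j) * s i :=
      (Finset.prod_erase_mul _ _ (Finset.mem_univ i)).symm
    change β _ = _
    rw [pow_one, h4, map_mul, map_mul, mul_assoc, ha i]
  · have hft : Algebra.FiniteType k B' := (Subalgebra.fg_iff_finiteType _).mp hfg
    set q : Ideal B' := (maximalIdeal R).comap B'.val with hq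
    have hqp : q.IsPrime := Ideal.IsPrime.comap _
    obtain ⟨a, n', ha, hn', h6⟩ := Groth.Agent.Ega4B.DimFT2.exists_height_add_trdeg k B' q
    -- the transcendence degree of `B'` is `n`
    have h7 : n' ≤ n := by
      have h := trdeg_sub β hβ B' le_sup_left hBV
      rw [hn, hn'] at h
      exact le_of_eq (Nat.cast_injective h)
    -- the residues are algebraically independent
    have h8 : n - 1 ≤ a := by
      let ψ : (B' ⧸ q) →ₐ[k] ResidueField R := Ideal.Quotient.liftₐ q
        ((IsScalarTower.toAlgHom k R (ResidueField R)).comp B'.val) (fun x hx => by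
          exact (residue_eq_zero_iff _).mpr hx)
      have hc' := hc.map' (f := IsScalarTower.toAlgHom k (ResidueField (V β)) (ResidueField R))
        (algebraMap (ResidueField (V β)) (ResidueField R)).injective
      have h11 : AlgebraicIndependent k (fun i => Ideal.Quotient.mk q ⟨(b i : R), hbB i⟩) := by
        apply AlgebraicIndependent.of_comp ψ
        convert hc' using 1
        funext i
        simp only [Function.comp_apply]
        rw [← hb i]
        rfl
      have h12 := h11.lift_cardinalMk_le_trdeg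
      rw [ha] at h12
      simpa using h12
    have h9 : q.height ≤ 1 := by
      have h10 : q.height ≠ ⊤ := by
        intro h
        rw [h] at h6
        simp at h6
      obtain ⟨t, ht⟩ := ENat.ne_top_iff_exists.mp h10
      rw [← ht] at h6 ⊢
      norm_cast at *
      omega
    exact h9

end K399.DivAlg
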