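import Groth.Agent.AlgGrp.K399.DivModel
import Mathlib.AlgebraicGeometry.ValuativeCriterion
import Mathlib.RingTheory.DiscreteValuationRing.TFAE
import Mathlib.RingTheory.KrullDimension.LocalRing
import Groth.Prelude.Def_Pi1

/-!
# The local ring at a divisor of a normal variety
-/

set_option autoImplicit false
universe u

open CategoryTheory CategoryTheory.Limits AlgebraicGeometry IsLocalRing
open Groth.Agent

namespace K399.DivMain

/-- A normal noetherian local domain of dimension at most one is a valuation ring. -/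
theorem valuationRing_of_dim (R : Type u) [CommRing R] [IsDomain R] [IsLocalRing R] [IsNoetherianRing R]
    (hn : IsIntegrallyClosed R) (hd : ringKrullDim R = 1) : ValuationRing R := by
  have key : (IsIntegrallyClosed R ∧ ∀ P : Ideal R, P ≠ ⊥ → P.IsPrime → P = maximalIdeal R) ↔ ValuationRing R :=
    (tfae_of_isNoetherianRing_of_isLocalRing_of_isDomain R).out 3 1
  refine key.mp ⟨hn, fun P hP hPp => ?_⟩
  by_contra hne
  have hlt : P < maximalIdeal R := lt_of_le_of_ne (le_maximalIdeal hPp.ne_top) hne
  have h0 : (⊥ : Ideal R) < P := bot_lt_iff_ne_bot.mpr hP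
  have h1 : (maximalIdeal R).height ≤ 1 := by
    have := IsLocalRing.maximalIdeal_height_eq_ringKrullDim (R := R)
    rw [hd] at this
    exact_mod_cast this.le
  have h2 : (1 : ℕ∞) ≤ P.height := by
    have := Ideal.height_add_one_le_of_lt_of_isPrime h0
    simpa using this
  have h3 := Ideal.height_add_one_le_of_lt_of_isPrime hlt
  have h4 : (1 : ℕ∞) + 1 ≤ 1 := (add_le_add_left h2 1).trans (h3.trans h1)
  norm_num at h4

open Algebra in
/-- transcendence degrees for a localization of dimension at most one -/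
theorem exists_trdeg {k A S : Type u} [Field k] [CommRing A] [IsDomain A] [Algebra k A] [Algebra.FiniteType k A]
    (q : Ideal A) [q.IsPrime] [CommRing S] [IsDomain S] [IsLocalRing S] [Algebra A S] [Algebra k S] [IsScalarTower k A S]
    [IsLocalization.AtPrime S q] (hd : ringKrullDim S ≤ 1) :
    ∃ N : ℕ, trdeg k S = N ∧ (N : Cardinal) ≤ trdeg k (ResidueField S) + 1 := by
  obtain ⟨a, n, ha, hn, h⟩ := Ega4B.DimFT2.exists_height_add_trdeg k A q
  have hinj : Function.Injective (algebraMap A S) :=
    IsLocalization.injective S (Ideal.primeCompl_le_nonZeroDivisors q)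
  have hf : FaithfulSMul A S := (faithfulSMul_iff_algebraMap_injective _ _).mpr hinj
  have halg : Algebra.IsAlgebraic A S := IsLocalization.isAlgebraic S q.primeCompl
  refine ⟨n, ?_, ?_⟩
  · have h1 := trdeg_add_eq k A (A := S)
    rw [trdeg_eq_zero (R := A) (A := S), add_zero, hn] at h1
    exact h1.symm
  · have h1 : q.height ≤ 1 := by
      rw [IsLocalization.AtPrime.ringKrullDim_eq_height q S] at hd
      exact_mod_cast hd
    have h2 : n ≤ a + 1 := by
      have : (n : ℕ∞) ≤ 1 + a := by rw [← h]; exact add_le_add_left h1 _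
      rw [add_comm] at this
      exact_mod_cast this
    have h3 : (a : Cardinal) ≤ trdeg k (ResidueField S) := by
      let ψ : (A ⧸ q) →ₐ[k] ResidueField S := Ideal.Quotient.liftₐ q
        (IsScalarTower.toAlgHom k A (ResidueField S)) (fun x hx => by
          rw [IsScalarTower.toAlgHom_apply, IsScalarTower.algebraMap_apply A S (ResidueField S)]
          refine (residue_eq_zero_iff _).mpr ?_
          rw [← IsLocalization.AtPrime.map_eq_maximalIdeal q S]
          exact Ideal.mem_map_of_mem _ hx)
      have hψ : Function.Injective ψ := by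
        rw [injective_iff_map_eq_zero]
        intro x hx
        obtain ⟨x, rfl⟩ := Ideal.Quotient.mk_surjective x
        have h4 : algebraMap A (ResidueField S) x = 0 := hx
        rw [IsScalarTower.algebraMap_apply A S (ResidueField S)] at h4
        have h5 : algebraMap A S x ∈ maximalIdeal S := (residue_eq_zero_iff _).mp h4
        have h6 := (IsLocalization.AtPrime.to_map_mem_maximal_iff S q x).mp h5
        exact Ideal.Quotient.eq_zero_iff_mem.mpr h6
      rw [← ha]
      exact trdeg_le_of_injective ψ hψ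
    calc (n : Cardinal) ≤ (a + 1 : ℕ) := by exact_mod_cast h2
      _ = (a : Cardinal) + 1 := by push_cast; rfl
      _ ≤ _ := by gcongr

/-- transcendence degrees for the local ring at a point of codimension at most one -/
theorem exists_trdeg_stalk {k : Type u} [Field k] (X : Over (Spec (CommRingCat.of k))) [LocallyOfFiniteType X.hom]
    [IsIntegral X.left] (ξ : X.left) (hξ : ringKrullDim (X.left.presheaf.stalk ξ) ≤ 1)
    [Algebra k (X.left.presheaf.stalk ξ)]
    (halg : Spec.map (CommRingCat.ofHom (algebraMap k (X.left.presheaf.stalk ξ))) = X.left.fromSpecStalk ξ ≫ X.hom) :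
    ∃ N : ℕ, Algebra.trdeg k (X.left.presheaf.stalk ξ) = N ∧
      (N : Cardinal) ≤ Algebra.trdeg k (ResidueField (X.left.presheaf.stalk ξ)) + 1 := by
  obtain ⟨U, hU, hyU, -⟩ := exists_isAffineOpen_mem_and_subset (X := X.left) (U := ⊤)
    (x := ξ) trivial
  have hne : Nonempty U := ⟨⟨_, hyU⟩⟩
  let A : Type u := Γ(X.left, U)
  have hA : IsDomain A := inferInstanceAs (IsDomain Γ(X.left, U))
  let ρ : CommRingCat.of k ⟶ Γ(X.left, U) := Spec.preimage (hU.fromSpec ≫ X.hom)
  have hρ : Spec.map ρ = hU.fromSpec ≫ X.hom := Spec.map_preimage _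
  let _ : Algebra k A := ρ.hom.toAlgebra
  have hft : Algebra.FiniteType k A := by
    have h1 : LocallyOfFiniteType (Spec.map ρ) := by rw [hρ]; infer_instance
    exact (HasRingHomProperty.Spec_iff (P := @LocallyOfFiniteType)).mp h1
  let _ : Algebra A (X.left.presheaf.stalk ξ) := (X.left.presheaf.germ U ξ hyU).hom.toAlgebra
  have hst : IsScalarTower k A (X.left.presheaf.stalk ξ) := .of_algebraMap_eq' (by
    have h1 : CommRingCat.ofHom (algebraMap k (X.left.presheaf.stalk ξ)) = ρ ≫ X.left.presheaf.germ U ξ hyU := by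
      apply Spec.map_injective
      rw [halg, Spec.map_comp, hρ, ← hU.fromSpecStalk_eq_fromSpecStalk hyU, IsAffineOpen.fromSpecStalk,
        Category.assoc]
    exact congrArg (fun z => z.hom) h1)
  have hloc := hU.isLocalization_stalk ⟨ξ, hyU⟩
  exact exists_trdeg (A := A) (S := X.left.presheaf.stalk ξ) (hU.primeIdealOf ⟨ξ, hyU⟩).asIdeal hξ

/-- the valuative criterion -/
theorem exists_lift {Y S : Scheme.{u}} (p : Y ⟶ S) [UniversallyClosed p] (R K : Type u) [CommRing R] [IsDomain R]
    [ValuationRing R] [Field K] [Algebra R K] [IsFractionRing R K] (i₁ : Spec (CommRingCat.of K) ⟶ Y)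
    (i₂ : Spec (CommRingCat.of R) ⟶ S)
    (h : i₁ ≫ p = Spec.map (CommRingCat.ofHom (algebraMap R K)) ≫ i₂) :
    ∃ l : Spec (CommRingCat.of R) ⟶ Y, Spec.map (CommRingCat.ofHom (algebraMap R K)) ≫ l = i₁ ∧ l ≫ p = i₂ := by
  have hval : ValuativeCriterion.Existence p := by
    have h1 : UniversallyClosed p := inferInstance
    rw [UniversallyClosed.eq_valuativeCriterion] at h1
    exact h1.1
  obtain ⟨⟨⟨l, hl1, hl2⟩⟩⟩ := hval ⟨R, K, i₁, i₂, ⟨h⟩⟩
  exact ⟨l, hl1, hl2⟩

end K399.DivMain
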