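import Groth.Agent.AlgGrp.K399.DivAlg
import Groth.Agent.Sga4h.NcGeom
import Groth.Agent.CycB.ImageInt
import Mathlib.AlgebraicGeometry.Birational.Birational
import Mathlib.RingTheory.Ideal.KrullsHeightTheorem

/-!
# Making the centre of a divisorial valuation a divisor (geometry)
-/

set_option autoImplicit false
universe u

open CategoryTheory CategoryTheory.Limits AlgebraicGeometry IsLocalRing
open Groth.Agent

namespace K399.DivModel

/-- If `w : W → Y'` and `w ≫ φ : W → Y` are open immersions, with `W` nonempty and `Y'`, `Y` irreducible,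
then `φ` is birational. -/
theorem exists_partialIso {Y' Y W : Scheme.{u}} [IsIntegral Y'] [IsIntegral Y] [Nonempty W] (φ : Y' ⟶ Y)
    (w : W ⟶ Y') [IsOpenImmersion w] [IsOpenImmersion (w ≫ φ)] :
    ∃ P : Y'.PartialIso Y, P.iso.hom ≫ P.target.ι = P.source.ι ≫ φ := by
  obtain ⟨x⟩ := ‹Nonempty W›
  refine ⟨⟨w.opensRange, w.opensRange.2.dense ⟨w x, x, rfl⟩, (w ≫ φ).opensRange,
    (w ≫ φ).opensRange.2.dense ⟨(w ≫ φ) x, x, rfl⟩,
    w.isoOpensRange.symm ≪≫ (w ≫ φ).isoOpensRange⟩, ?_⟩
  rw [← cancel_epi w.isoOpensRange.hom]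
  simp

/-- `B → B'_s` is a localization if `B' ⊆ B_s`. -/
theorem isLocalization_away {B B' C : Type u} [CommRing B] [CommRing B'] [CommRing C] [IsDomain B'] [Algebra B B']
    [Algebra B' C] [Algebra B C] [IsScalarTower B B' C]
    (hinj : Function.Injective (algebraMap B B')) (s : B) (hs : s ≠ 0)
    [IsLocalization.Away (algebraMap B B' s) C]
    (h : ∀ x : B', ∃ (n : ℕ) (b : B), algebraMap B B' s ^ n * x = algebraMap B B' b) :
    IsLocalization.Away s C := by
  have hs' : algebraMap B B' s ≠ 0 := fun h => hs (hinj (by rw [h, map_zero]))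
  have hC : Function.Injective (algebraMap B' C) :=
    IsLocalization.injective C (powers_le_nonZeroDivisors_of_noZeroDivisors hs')
  refine (isLocalization_iff _ _).mpr ⟨?_, ?_, ?_⟩
  · rintro ⟨_, n, rfl⟩
    rw [map_pow, IsScalarTower.algebraMap_apply B B' C]
    exact (IsLocalization.Away.algebraMap_isUnit (S := C) (algebraMap B B' s)).pow n
  · intro z
    obtain ⟨⟨x, _, n, rfl⟩, hx⟩ := IsLocalization.surj (Submonoid.powers (algebraMap B B' s)) z
    obtain ⟨m, b, hb⟩ := h x
    refine ⟨(b, ⟨s ^ (n + m), n + m, rfl⟩), ?_⟩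
    change z * algebraMap B' C (algebraMap B B' s ^ n) = algebraMap B' C x at hx
    change z * algebraMap B C (s ^ (n + m)) = algebraMap B C b
    rw [IsScalarTower.algebraMap_apply B B' C, IsScalarTower.algebraMap_apply B B' C, ← hb, pow_add, map_mul,
      map_mul, map_mul, ← hx, map_pow, map_pow, map_pow, map_pow]
    ring
  · intro x y hxy
    rw [IsScalarTower.algebraMap_apply B B' C, IsScalarTower.algebraMap_apply B B' C] at hxy
    exact ⟨1, by rw [hinj (hC hxy)]⟩

/-- the dimension of a stalk of `Spec B'` -/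
theorem ringKrullDim_stalk_spec {B' : Type u} [CommRing B'] (x : PrimeSpectrum B') (d : ℕ∞)
    (hx : x.asIdeal.height ≤ d) :
    ringKrullDim ((Spec (CommRingCat.of B')).presheaf.stalk x) ≤ d := by
  have h0 := StructureSheaf.IsLocalization.to_stalk (CommRingCat.of B') x
  have h1 := IsLocalization.AtPrime.ringKrullDim_eq_height x.asIdeal
    ((Spec.structureSheaf (CommRingCat.of B')).presheaf.stalk x)
  exact le_of_eq_of_le h1 (by exact_mod_cast hx)

/-- the dimension of the stalk at the image under an open immersion -/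
theorem ringKrullDim_stalk_of_isOpenImmersion {X Y : Scheme.{u}} (f : X ⟶ Y) [IsOpenImmersion f] (x : X) :
    ringKrullDim (Y.presheaf.stalk (f x)) = ringKrullDim (X.presheaf.stalk x) :=
  ringKrullDim_eq_of_ringEquiv (asIso (f.stalkMap x)).commRingCatIsoToRingEquiv

/-- **The model.** `Y` proper and integral over `k`, `R` a valuation ring over `k` of transcendence degree `N`
whose residue field has transcendence degree at least `N - 1`, `h : Spec R → Y` dominant. Then there is a
proper birational `φ : Y' → Y` such that `h` lifts to `h' : Spec R → Y'` and the image of the closed point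
has codimension at most one. -/
theorem exists_model (k : Type u) [Field k] (Y : Over (Spec (CommRingCat.of k))) [IsProper Y.hom] [IsIntegral Y.left]
    (R : Type u) [CommRing R] [IsDomain R] [ValuationRing R] [Algebra k R]
    (h : Spec (CommRingCat.of R) ⟶ Y.left) (hh : h ≫ Y.hom = Spec.map (CommRingCat.ofHom (algebraMap k R)))
    [IsDominant h] (N : ℕ) (hN : Algebra.trdeg k R = N) (hres : (N : Cardinal) ≤ Algebra.trdeg k (ResidueField R) + 1) :
    ∃ (Y' : Over (Spec (CommRingCat.of k))) (_ : IsProper Y'.hom) (_ : IsIntegral Y'.left) (φ : Y' ⟶ Y)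
      (P : Y'.left.PartialIso Y.left) (_ : P.iso.hom ≫ P.target.ι = P.source.ι ≫ φ.left)
      (h' : Spec (CommRingCat.of R) ⟶ Y'.left), h' ≫ φ.left = h ∧
        ringKrullDim (Y'.left.presheaf.stalk (h' (closedPoint R))) ≤ 1 := by
  obtain ⟨U, hU, hyU, -⟩ := exists_isAffineOpen_mem_and_subset (X := Y.left) (U := ⊤)
    (x := h (closedPoint R)) trivial
  have hpre : h ⁻¹ᵁ U = ⊤ := Scheme.preimage_eq_top_of_closedPoint_mem h hyU
  -- the affine chart
  have hne : Nonempty U := ⟨⟨_, hyU⟩⟩
  let B : Type u := Γ(Y.left, U)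
  have hBd : IsDomain B := inferInstanceAs (IsDomain Γ(Y.left, U))
  let ρ : CommRingCat.of k ⟶ Γ(Y.left, U) := Spec.preimage (hU.fromSpec ≫ Y.hom)
  have hρ : Spec.map ρ = hU.fromSpec ≫ Y.hom := Spec.map_preimage _
  algebraize [ρ.hom]
  let _ : Algebra k B := ρ.hom.toAlgebra
  have hft : Algebra.FiniteType k B := by
    have h1 : LocallyOfFiniteType (Spec.map ρ) := by rw [hρ]; infer_instance
    exact (HasRingHomProperty.Spec_iff (P := @LocallyOfFiniteType)).mp h1
  have hrange : Set.range h ⊆ Set.range hU.fromSpec := by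
    rw [hU.range_fromSpec]
    rintro _ ⟨x, rfl⟩
    have : x ∈ h ⁻¹ᵁ U := by rw [hpre]; trivial
    exact this
  let b0 : Spec (CommRingCat.of R) ⟶ Spec Γ(Y.left, U) := IsOpenImmersion.lift hU.fromSpec h hrange
  have hb0 : b0 ≫ hU.fromSpec = h := IsOpenImmersion.lift_fac _ _ _
  let β0 : Γ(Y.left, U) ⟶ CommRingCat.of R := Spec.preimage b0
  have hβ0 : Spec.map β0 = b0 := Spec.map_preimage _
  have hβρ : ρ ≫ β0 = CommRingCat.ofHom (algebraMap k R) := by
    apply Spec.map_injective
    rw [Spec.map_comp, hρ, hβ0, ← Category.assoc, hb0, hh]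
  let β : B →ₐ[k] R := { β0.hom with
    commutes' := fun c => by
      have := congrArg (fun z => z.hom c) hβρ
      exact this }
  have hβ : Function.Injective β := by
    have h1 : IsDominant (b0 ≫ hU.fromSpec) := by rw [hb0]; infer_instance
    have h2 : IsDominant b0 := IsDominant.of_comp_of_isOpenImmersion b0 hU.fromSpec
    have h3 : DenseRange (PrimeSpectrum.comap β0.hom) := by
      have h4 : IsDominant (Spec.map β0) := by rw [hβ0]; exact h2
      exact h4.denseRange
    have h5 := (PrimeSpectrum.denseRange_comap_iff_ker_le_nilRadical _).mp h3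
    have h6 : RingHom.ker β0.hom = ⊥ := by
      rw [eq_bot_iff]
      refine h5.trans ?_
      have : IsReduced B := inferInstance
      exact le_of_eq (nilradical_eq_zero B)
    exact (RingHom.injective_iff_ker_eq_bot _).mpr h6
  obtain ⟨B', hB'fg, hBB', ⟨s, hs, hsB'⟩, hht⟩ := DivAlg.exists_model β hβ N hN hres
  have hB'ft : Algebra.FiniteType k B' := (Subalgebra.fg_iff_finiteType _).mp hB'fg
  obtain ⟨n, t, ht⟩ : ∃ (n : ℕ) (t : Fin n → B'), Algebra.adjoin k (Set.range t) = ⊤ := by
    obtain ⟨S, hS⟩ := hB'ft.out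
    refine ⟨S.card, fun i => (S.equivFin.symm i : B'), ?_⟩
    rw [← hS]
    congr 1
    ext x
    constructor
    · rintro ⟨i, rfl⟩
      exact (S.equivFin.symm i).2
    · intro hx
      exact ⟨S.equivFin ⟨x, hx⟩, by simp⟩
  obtain ⟨P, p, hp, j0, hj0, hj0p, -⟩ := Sga4h.NcGeom.W6 k n B' t ht
  let γ : B →ₐ[k] B' := (Subalgebra.inclusion hBB').comp β.rangeRestrict
  have hγ : Function.Injective γ := by
    intro x y hxy
    apply hβ
    exact congrArg (fun z : B' => (z : R)) hxy
  let v : Spec (CommRingCat.of B') ⟶ Y.left :=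
    Spec.map (CommRingCat.ofHom (γ : B →+* B')) ≫ hU.fromSpec
  have hv : v ≫ Y.hom = Spec.map (CommRingCat.ofHom (algebraMap k B')) := by
    rw [Category.assoc, ← hρ, ← Spec.map_comp]
    congr 1
    ext c
    exact congrArg Subtype.val (γ.commutes c)
  let j : Spec (CommRingCat.of B') ⟶ pullback Y.hom p := pullback.lift v j0 (by rw [hv, hj0p])
  have hj2 : j ≫ pullback.snd _ _ = j0 := pullback.lift_snd _ _ _
  have hj1 : j ≫ pullback.fst _ _ = v := pullback.lift_fst _ _ _
  have hjimm : IsImmersion j := by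
    have : IsImmersion (j ≫ pullback.snd Y.hom p) := by rw [hj2]; infer_instance
    exact IsImmersion.of_comp j (pullback.snd Y.hom p)
  have hjqc : QuasiCompact j := by
    have : QuasiCompact (j ≫ (pullback.fst Y.hom p ≫ Y.hom)) := by
      rw [← Category.assoc, hj1, hv]; infer_instance
    exact QuasiCompact.of_comp j (pullback.fst Y.hom p ≫ Y.hom)
  have hprop : IsProper (pullback.fst Y.hom p ≫ Y.hom) := inferInstance
  have hint : IsIntegral j.image := CycB.ImageInt.isIntegral_image j
  -- the localization at `s`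
  obtain ⟨C, _, _, hC⟩ : ∃ (C : Type u) (_ : CommRing C) (_ : Algebra B' C), IsLocalization.Away (γ s) C :=
    ⟨Localization.Away (γ s), inferInstance, inferInstance, inferInstance⟩
  let _ : Algebra B B' := (γ : B →+* B').toAlgebra
  let _ : Algebra B C := ((algebraMap B' C).comp (γ : B →+* B')).toAlgebra
  have hst : IsScalarTower B B' C := .of_algebraMap_eq' rfl
  have hlocB' : IsLocalization.Away (algebraMap B B' s) C := hC
  have hlocB : IsLocalization.Away s C := isLocalization_away (B := B) (B' := B') (C := C) hγ s hs (by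
    intro x
    obtain ⟨n, b, hb⟩ := hsB' x x.2
    exact ⟨n, b, Subtype.ext hb.symm⟩)
  have ho1 : IsOpenImmersion (Spec.map (CommRingCat.ofHom (algebraMap B' C))) :=
    IsOpenImmersion.of_isLocalization (γ s)
  have ho2 : IsOpenImmersion (Spec.map (CommRingCat.ofHom (algebraMap B C))) :=
    IsOpenImmersion.of_isLocalization s
  let Y' : Over (Spec (CommRingCat.of k)) := Over.mk (j.imageι ≫ pullback.fst Y.hom p ≫ Y.hom)
  let φ : Y' ⟶ Y := Over.homMk (j.imageι ≫ pullback.fst Y.hom p)
  have hproper : IsProper Y'.hom := inferInstanceAs (IsProper (j.imageι ≫ (pullback.fst Y.hom p ≫ Y.hom)))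
  have hint' : IsIntegral Y'.left := hint
  have hjφ : j.toImage ≫ φ.left = v := by
    change j.toImage ≫ j.imageι ≫ pullback.fst Y.hom p = v
    rw [Scheme.Hom.toImage_imageι_assoc, hj1]
  let w : Spec (CommRingCat.of C) ⟶ Y'.left := Spec.map (CommRingCat.ofHom (algebraMap B' C)) ≫ j.toImage
  have hw : w ≫ φ.left = Spec.map (CommRingCat.ofHom (algebraMap B C)) ≫ hU.fromSpec := by
    rw [Category.assoc, hjφ, ← Category.assoc, ← Spec.map_comp]
    rfl
  have hwo : IsOpenImmersion w := inferInstanceAs (IsOpenImmersion (_ ≫ _))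
  have hwo' : IsOpenImmersion (w ≫ φ.left) := by
    rw [hw]
    infer_instance
  have hne' : Nonempty (Spec (CommRingCat.of C)) := by
    have hs' : γ s ≠ 0 := fun h => hs (hγ (by rw [h, map_zero]))
    have hinj : Function.Injective (algebraMap B' C) :=
      IsLocalization.injective C (powers_le_nonZeroDivisors_of_noZeroDivisors hs')
    have : Nontrivial C := hinj.nontrivial
    exact inferInstanceAs (Nonempty (PrimeSpectrum C))
  obtain ⟨Q, hQ⟩ := exists_partialIso (W := Spec (CommRingCat.of C)) φ.left w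
  refine ⟨Y', hproper, hint', φ, Q, hQ,
    Spec.map (CommRingCat.ofHom (B'.val : B' →+* R)) ≫ j.toImage, ?_, ?_⟩
  · rw [Category.assoc, hjφ, ← hb0, ← hβ0, ← Category.assoc, ← Spec.map_comp]
    rfl
  · have h1 : (Spec.map (CommRingCat.ofHom (B'.val : B' →+* R)) ≫ j.toImage) (closedPoint R) =
        j.toImage (Spec.map (CommRingCat.ofHom (B'.val : B' →+* R)) (closedPoint R)) := rfl
    rw [h1, ringKrullDim_stalk_of_isOpenImmersion]
    exact ringKrullDim_stalk_spec _ 1 hht

end K399.DivModel
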