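import Groth.Agent.AlgGrp.K399.Quot
import Groth.Agent.Sga3.H786.HullFG
import Groth.Agent.Sga3.H787.HullKer

/-!
# The affinization of an algebraic group
-/

set_option autoImplicit false
universe u
open CategoryTheory MonoidalCategory CartesianMonoidalCategory MonObj GrpObj AlgebraicGeometry CategoryTheory.Limits

namespace K399.Hull

open Groth.Agent Groth.Agent.Books.AffBridge Groth.Agent.Books.AffBridge2 Groth.Agent.Sga3C.Affinization
  Groth.Agent.Sga3C.AffinizationGrp

variable {k : Type u} [Field k]

/-- locally of finite type is invariant under isomorphisms -/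
theorem lft_of_iso {X Y : Over (Spec (CommRingCat.of k))} (e : X ≅ Y) [LocallyOfFiniteType X.hom] :
    LocallyOfFiniteType Y.hom := by
  have h : IsIso e.inv.left := inferInstanceAs (IsIso ((Over.forget _).mapIso e).inv)
  rw [← Over.w e.inv]
  infer_instance

/-- The affine hull of an algebraic group. -/
theorem exists_affinization (G : Over (Spec (CommRingCat.of k))) [GrpObj G]
    [LocallyOfFiniteType G.hom] [QuasiCompact G.hom] :
    ∃ (Q : Over (Spec (CommRingCat.of k))) (_ : GrpObj Q) (ρ : G ⟶ Q), IsMonHom ρ ∧ IsAffine Q.left ∧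
      LocallyOfFiniteType Q.hom ∧ Flat ρ.left ∧ Surjective ρ.left ∧ IsAffinization ρ := by
  have : CompactSpace G.left := QuasiCompact.compactSpace_of_compactSpace G.hom
  have : IsLocallyNoetherian G.left := LocallyOfFiniteType.isLocallyNoetherian G.hom
  have : QuasiSeparatedSpace G.left := inferInstance
  have ha := isAffinization_toAff G
  obtain ⟨hgrp, ham⟩ := exists_grpObj ha
  have haff : IsAffine (affOver G).left := ha.isAffine
  have hiso := ha.isIso
  have hinj : Function.Injective (toAff G).left.appTop.hom :=
    (ConcreteCategory.bijective_of_isIso (toAff G).left.appTop).1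
  have h1 := Groth.Agent.Sga3.H789.FieldHull.flat_and_surjective k G (affOver G) (toAff G) hinj
  obtain ⟨A, _, _, e, he⟩ := exists_hopf k (affOver G)
  have he1 : IsIso e.hom.left := inferInstanceAs (IsIso ((Over.forget _).map e.hom))
  have h2 : Algebra.FiniteType k A := by
    refine Sga3.H786.HullFG.finiteType_of_injective k G A (toAff G ≫ e.hom) ?_
    have h3 : IsIso e.hom.left.appTop := Sga3.H786.HullFG.isIso_appTop _ he1
    rw [Over.comp_left, Scheme.Hom.comp_appTop, CommRingCat.hom_comp, RingHom.coe_comp]
    exact hinj.comp (ConcreteCategory.bijective_of_isIso e.hom.left.appTop).1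
  have h3 : LocallyOfFiniteType (SpecOver k A).hom := (locallyOfFiniteType_specOver_iff k A).mpr h2
  have h4 : LocallyOfFiniteType (affOver G).hom := lft_of_iso e.symm
  exact ⟨affOver G, hgrp, toAff G, ham, haff, h4, h1.1, h1.2, ha⟩

end K399.Hull
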