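import Groth.Agent.AlgGrp.K399.Tools
import Groth.Agent.Sga3C.FlatGeneric
import Groth.Agent.S3034
import Groth.Agent.S3278

/-!
# Quotients, kernels, images
-/

set_option autoImplicit false
universe u
open CategoryTheory MonoidalCategory CartesianMonoidalCategory MonObj GrpObj AlgebraicGeometry CategoryTheory.Limits

namespace K399.Quot

open Groth.Agent

section cat

variable {C : Type*} [Category C] [CartesianMonoidalCategory C]

theorem exists_lift_ker {N G Q T : C} [GrpObj Q] {n : N ⟶ G} {f : G ⟶ Q}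
    (h : IsPullback n (toUnit N) f η[Q]) (x : T ⟶ G) (hx : x ≫ f = 1) : ∃ y : T ⟶ N, y ≫ n = x := by
  refine ⟨h.lift x (toUnit T) ?_, h.lift_fst _ _ _⟩
  rw [hx, Hom.one_def]

theorem ker_comp {N G Q T : C} [GrpObj Q] {n : N ⟶ G} {f : G ⟶ Q}
    (h : IsPullback n (toUnit N) f η[Q]) (y : T ⟶ N) : (y ≫ n) ≫ f = 1 := by
  rw [Category.assoc, h.w, ← Category.assoc, Hom.one_def]
  congr 1
  exact toUnit_unique _ _

theorem ker_comp' {N G Q : C} [GrpObj Q] {n : N ⟶ G} {f : G ⟶ Q}
    (h : IsPullback n (toUnit N) f η[Q]) : n ≫ f = 1 := by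
  have := ker_comp h (𝟙 N)
  simpa using this

end cat

section S

variable {S : Scheme.{u}}

theorem surj_stable : MorphismProperty.IsStableUnderComposition @Surjective.{u} :=
  ⟨fun f g hf hg => by
    have := hf; have := hg
    infer_instance⟩

/-- Homomorphisms descend along quotients. -/
theorem exists_desc_hom {L G Q P : Over S} [GrpObj G] [GrpObj Q] [GrpObj P] (l : L ⟶ G) (q : G ⟶ Q)
    [IsMonHom q] [Flat q.left] [Surjective q.left] [LocallyOfFinitePresentation q.left]
    (h : AlgGrp.IsKernel l q) (φ : G ⟶ P) [IsMonHom φ] (hφ : l ≫ φ = 1) :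
    ∃ ψ : Q ⟶ P, IsMonHom ψ ∧ q ≫ ψ = φ := by
  obtain ⟨ψ, hψ⟩ := Sga3C.QuotProps.exists_desc q φ (fun T x y hxy => by
    obtain ⟨z, hz⟩ := exists_lift_ker h (x * y⁻¹) (by
      rw [MonObj.mul_comp, GrpObj.inv_comp, hxy, mul_inv_cancel])
    have h1 : (x * y⁻¹) ≫ φ = 1 := by
      rw [← hz, Category.assoc, hφ, MonObj.comp_one]
    rw [MonObj.mul_comp, GrpObj.inv_comp] at h1
    exact mul_inv_eq_one.mp h1)
  refine ⟨ψ, ⟨?_, ?_⟩, hψ⟩
  · rw [← IsMonHom.one_hom q, Category.assoc, hψ, IsMonHom.one_hom]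
  · have := surj_stable.{u}
    have f2 : Flat (q ⊗ₘ q).left := Sga3C.QuotProps.tensorHom_left_of (@Flat) q q ‹_› ‹_›
    have s2 : Surjective (q ⊗ₘ q).left := Sga3C.QuotProps.tensorHom_left_of (@Surjective) q q ‹_› ‹_›
    have := Sga3C.QuotProps.epi_of_flat_surjective (q ⊗ₘ q)
    rw [← cancel_epi (q ⊗ₘ q), ← Category.assoc, ← IsMonHom.mul_hom q, Category.assoc, hψ,
      IsMonHom.mul_hom, ← Category.assoc, tensorHom_comp_tensorHom, hψ]

/-- A subgroup of a commutative group is normal. -/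
theorem isNormalHom_of_comm {N G : Over S} [GrpObj N] [GrpObj G] [IsCommMonObj G] (i : N ⟶ G) :
    AlgGrp.IsNormalHom i := by
  intro T g n
  exact ⟨n, by rw [mul_comm g, mul_inv_cancel_right]⟩

/-- If the quotient homomorphism is trivial, the kernel is everything. -/
theorem isIso_of_kernel_of_eq_one {N G Q : Over S} [GrpObj Q] (i : N ⟶ G) (q : G ⟶ Q)
    (h : AlgGrp.IsKernel i q) (hq : q = 1) : IsIso i := by
  have hm : Mono i := ⟨fun _ _ h' => h.hom_ext h' (toUnit_unique _ _)⟩
  obtain ⟨s, hs⟩ := exists_lift_ker h (𝟙 G) (by rw [hq]; simp)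
  exact ⟨s, by rw [← cancel_mono i, Category.assoc, hs, Category.id_comp, Category.comp_id], hs⟩

end S

variable {k : Type u} [Field k]

/-- If `q : X ⟶ Y` is flat and surjective and `X` has only constant functions, so has `Y`. -/
theorem isIso_appTop_of_flat_surjective {X Y : Over (Spec (CommRingCat.of k))} (q : X ⟶ Y) [Flat q.left]
    [Surjective q.left] [IsIso X.hom.appTop] : IsIso Y.hom.appTop := by
  have h1 := Sga3C.FlatGeneric.app_injective_of_flat_surjective q.left ⊤
  have hm : Mono q.left.appTop := ConcreteCategory.mono_of_injective _ h1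
  have h2 : Y.hom.appTop ≫ q.left.appTop = X.hom.appTop := by
    rw [← Scheme.Hom.comp_appTop, Over.w]
  have h3 : IsIso (Y.hom.appTop ≫ q.left.appTop) := by rw [h2]; infer_instance
  -- `q.left.appTop` is a split epi and mono
  have h4 : IsSplitEpi q.left.appTop :=
    ⟨⟨⟨inv (Y.hom.appTop ≫ q.left.appTop) ≫ Y.hom.appTop, by
      rw [Category.assoc, IsIso.inv_hom_id]⟩⟩⟩
  have h5 : IsIso q.left.appTop := isIso_of_mono_of_isSplitEpi _
  exact IsIso.of_isIso_comp_right _ q.left.appTop

/-- images of homomorphisms of algebraic groups over a field -/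
theorem exists_image {G H : Over (Spec (CommRingCat.of k))} [GrpObj G] [GrpObj H] [LocallyOfFiniteType G.hom]
    [QuasiCompact G.hom] [LocallyOfFiniteType H.hom] (u : G ⟶ H) [IsMonHom u] :
    ∃ (C : Over (Spec (CommRingCat.of k))) (_ : GrpObj C) (p : G ⟶ C) (i : C ⟶ H), IsMonHom p ∧ IsMonHom i ∧
      p ≫ i = u ∧ Flat p.left ∧ Surjective p.left ∧ LocallyOfFinitePresentation p.left ∧ IsClosedImmersion i.left := by
  have hI : IsIntegral (𝟙_ (Over (Spec (CommRingCat.of k)))).left :=
    inferInstanceAs (IsIntegral (Spec (CommRingCat.of k)))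
  have hS : Subsingleton (𝟙_ (Over (Spec (CommRingCat.of k)))).left :=
    inferInstanceAs (Subsingleton (Spec (CommRingCat.of k)))
  have hsep : IsSeparated H.hom := Books.AntiAffine.isSeparated_hom H
  have hqc : QuasiCompact u.left := Tools.qc_left u
  exact S3034.result k G H u (by infer_instance)

/-- A homomorphism from a group killing everything but an affine quotient of an anti-affine group is trivial:
`q : G ⟶ Q` is flat surjective with kernel `l`, `Q` anti-affine, `ψ : G ⟶ R` a homomorphism to an affine group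
trivial on `l`; then `ψ = 1`. -/
theorem eq_one_of_antiAffine {L G Q R : Over (Spec (CommRingCat.of k))} [GrpObj G] [GrpObj Q] [GrpObj R]
    [LocallyOfFiniteType G.hom] [LocallyOfFiniteType Q.hom]
    (l : L ⟶ G) (q : G ⟶ Q) [IsMonHom q] [Flat q.left] [Surjective q.left] (h : AlgGrp.IsKernel l q)
    [IsIso Q.hom.appTop] [IsAffine R.left] (ψ : G ⟶ R) [IsMonHom ψ] (hψ : l ≫ ψ = 1) : ψ = 1 := by
  have := Tools.lfp_left q
  obtain ⟨χ, hχ, hqχ⟩ := exists_desc_hom l q h ψ hψ
  rw [← hqχ, Const.eq_const η[Q] χ, IsMonHom.one_hom, ← Category.assoc, Hom.one_def]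
  congr 1
  exact toUnit_unique _ _

/-- a quotient of a commutative group is commutative -/
theorem isCommMonObj_of_quotient {G Q : Over (Spec (CommRingCat.of k))} [GrpObj G] [GrpObj Q] [IsCommMonObj G]
    (q : G ⟶ Q) [IsMonHom q] [Flat q.left] [Surjective q.left] : IsCommMonObj Q := by
  have := surj_stable.{u}
  have f2 : Flat (q ⊗ₘ q).left := Sga3C.QuotProps.tensorHom_left_of (@Flat) q q ‹_› ‹_›
  have s2 : Surjective (q ⊗ₘ q).left := Sga3C.QuotProps.tensorHom_left_of (@Surjective) q q ‹_› ‹_›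
  have := Sga3C.QuotProps.epi_of_flat_surjective (q ⊗ₘ q)
  refine ⟨?_⟩
  rw [← cancel_epi (q ⊗ₘ q), ← IsMonHom.mul_hom q, BraidedCategory.braiding_naturality_assoc,
    ← IsMonHom.mul_hom q, IsCommMonObj.mul_comm_assoc]

/-- Let `ρ : G ⟶ Q` be a flat surjective homomorphism from a commutative algebraic group to an affine one and
`l : L ⟶ G` the kernel of a flat surjective homomorphism onto an anti-affine group. Then `L ⟶ Q` is surjective. -/
theorem surjective_of_antiAffine_quotient {L G Gq Q : Over (Spec (CommRingCat.of k))} [GrpObj L] [GrpObj G]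
    [GrpObj Gq] [GrpObj Q] [LocallyOfFiniteType L.hom] [QuasiCompact L.hom] [LocallyOfFiniteType G.hom]
    [LocallyOfFiniteType Gq.hom] [IsAffine Q.left] [LocallyOfFiniteType Q.hom] [IsCommMonObj G]
    (l : L ⟶ G) [IsMonHom l] (q : G ⟶ Gq) [IsMonHom q] [Flat q.left] [Surjective q.left]
    (h : AlgGrp.IsKernel l q) [IsIso Gq.hom.appTop] (ρ : G ⟶ Q) [IsMonHom ρ] [Flat ρ.left] [Surjective ρ.left] :
    Surjective (l ≫ ρ).left := by
  have hcomm : IsCommMonObj Q := isCommMonObj_of_quotient ρ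
  obtain ⟨C, _, p, i, hp, hi, hpi, hf, hs, -, hcl⟩ := exists_image (l ≫ ρ)
  obtain ⟨R, _, q', hq'm, hR, hRf, hq'f, hq's, hker⟩ := S3278.result k Q C i (isNormalHom_of_comm i)
  have h1 : l ≫ ρ ≫ q' = 1 := by
    rw [← Category.assoc, ← hpi, Category.assoc, ker_comp' hker]
    simp
  have h2 : ρ ≫ q' = 1 := eq_one_of_antiAffine l q h (ρ ≫ q') h1
  have hepi := Sga3C.QuotProps.epi_of_flat_surjective ρ
  have h3 : q' = 1 := by
    rw [← cancel_epi ρ, h2]
    simp
  have h4 := isIso_of_kernel_of_eq_one i q' hker h3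
  have h5 : IsIso i.left := inferInstanceAs (IsIso ((Over.forget _).map i))
  rw [← hpi, Over.comp_left]
  infer_instance

end K399.Quot
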