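import Groth.Agent.AlgGrp.K399.Basic
import Groth.Agent.VarietyA.GlobalSections

/-!
# Functions on proper varieties and products
-/

set_option autoImplicit false
universe u
open CategoryTheory MonoidalCategory CartesianMonoidalCategory MonObj GrpObj AlgebraicGeometry CategoryTheory.Limits

namespace K399.Proper

open Groth.Agent

variable {k : Type u} [Field k]

/-- Over an algebraically closed field a proper, connected, reduced scheme has only constant functions. -/
theorem isIso_appTop_of_proper [IsAlgClosed k] (X : Over (Spec (CommRingCat.of k))) [UniversallyClosed X.hom]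
    [ConnectedSpace X.left] [IsReduced X.left] : IsIso X.hom.appTop := by
  let φ : CommRingCat.of k ⟶ Γ(X.left, ⊤) := (Scheme.ΓSpecIso (CommRingCat.of k)).inv ≫ X.hom.appTop
  algebraize [φ.hom]
  have h1 : (X.hom.appTop).hom.IsIntegral := isIntegral_appTop_of_universallyClosed X.hom
  have h2 : φ.hom.IsIntegral := by
    have : φ.hom = X.hom.appTop.hom.comp (Scheme.ΓSpecIso (CommRingCat.of k)).inv.hom := rfl
    rw [this]
    refine RingHom.IsIntegral.trans _ _ ?_ h1
    exact RingHom.isIntegral_of_surjective _ (ConcreteCategory.bijective_of_isIso _).2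
  have h3 : Algebra.IsIntegral k Γ(X.left, ⊤) := ⟨h2⟩
  have h4 : Nontrivial Γ(X.left, ⊤) := by
    obtain ⟨x⟩ := (inferInstance : Nonempty X.left)
    have : Nonempty (⊤ : X.left.Opens) := ⟨⟨x, trivial⟩⟩
    exact X.left.component_nontrivial ⊤
  have h5 : _root_.IsReduced Γ(X.left, ⊤) := inferInstance
  have h6 : Function.Bijective (algebraMap k Γ(X.left, ⊤)) :=
    VarietyA.GlobalSections.algebraMap_bijective_of_connected (VarietyA.GlobalSections.idem_of_connected X.left)
  exact Const.isIso_of_bijective h6

theorem isProper_tensor (X Y : Over (Spec (CommRingCat.of k))) [IsProper X.hom] [IsProper Y.hom] :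
    IsProper (X ⊗ Y).hom := by
  have h : (X ⊗ Y).hom = pullback.snd X.hom Y.hom ≫ Y.hom := by
    exact (Over.w (snd X Y)).symm
  rw [h]
  infer_instance

theorem isIso_fst_app (X P : Over (Spec (CommRingCat.of k))) [CompactSpace P.left] [QuasiSeparatedSpace P.left]
    [IsIso P.hom.appTop] (V : X.left.Opens) : IsIso ((fst X P).left.app V) := by
  have h : fst X P = (β_ X P).hom ≫ snd P X := by simp
  have h1 := Basic.isIso_snd_app P X V
  have h2 : IsIso (β_ X P).hom.left := inferInstanceAs (IsIso ((Over.forget _).mapIso (β_ X P)).hom)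
  have h3 : IsIso ((β_ X P).hom.left.app ((snd P X).left ⁻¹ᵁ V)) := inferInstance
  rw [h, Over.comp_left, Scheme.Hom.comp_app]
  exact @IsIso.comp_isIso _ _ _ _ _ _ _ h1 h3

end K399.Proper
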