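import Groth.Agent.AlgGrp.K399.Basic
import Groth.Agent.Books.AlgPtsGrp
import Groth.Agent.Sga3C.QuotProps
import Mathlib.AlgebraicGeometry.Noetherian

/-!
# Small tools: finite presentation of morphisms of algebraic schemes, constancy on anti-affine factors
-/

set_option autoImplicit false
universe u
open CategoryTheory MonoidalCategory CartesianMonoidalCategory MonObj GrpObj AlgebraicGeometry CategoryTheory.Limits

namespace K399.Tools

open Groth.Agent

variable {k : Type u} [Field k]

theorem lft_left {X Y : Over (Spec (CommRingCat.of k))} [LocallyOfFiniteType X.hom] (f : X ⟶ Y) :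
    LocallyOfFiniteType f.left := by
  have : LocallyOfFiniteType (f.left ≫ Y.hom) := by rw [Over.w]; infer_instance
  exact locallyOfFiniteType_of_comp f.left Y.hom

theorem lfp_left {X Y : Over (Spec (CommRingCat.of k))} [LocallyOfFiniteType X.hom] [LocallyOfFiniteType Y.hom]
    (f : X ⟶ Y) : LocallyOfFinitePresentation f.left := by
  have : IsLocallyNoetherian Y.left := LocallyOfFiniteType.isLocallyNoetherian Y.hom
  rw [LocallyOfFinitePresentation.iff_locallyOfFiniteType]
  exact lft_left f

theorem qc_left {X Y : Over (Spec (CommRingCat.of k))} [QuasiCompact X.hom] [QuasiSeparated Y.hom]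
    (f : X ⟶ Y) : QuasiCompact f.left := by
  have : QuasiCompact (f.left ≫ Y.hom) := by rw [Over.w]; infer_instance
  exact QuasiCompact.of_comp f.left Y.hom

/-- A morphism from `P × Y`, `P` with constant functions only, to an affine scheme does not depend on `P`. -/
theorem eq_snd_comp {P Y Z : Over (Spec (CommRingCat.of k))} [CompactSpace P.left] [QuasiSeparatedSpace P.left]
    [IsIso P.hom.appTop] [IsAffine Z.left] (p : 𝟙_ (Over (Spec (CommRingCat.of k))) ⟶ P) (f : P ⊗ Y ⟶ Z) :
    f = snd P Y ≫ lift (toUnit Y ≫ p) (𝟙 Y) ≫ f := by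
  ext1
  apply ext_of_isAffine
  have h1 : IsIso (snd P Y).left.appTop := Basic.isIso_snd_app P Y ⊤
  have h2 : (lift (toUnit Y ≫ p) (𝟙 Y)).left ≫ (snd P Y).left = 𝟙 _ := by
    rw [← Over.comp_left]; simp
  have h3 := congr(($h2).appTop)
  rw [Scheme.Hom.comp_appTop] at h3
  have h4 : (lift (toUnit Y ≫ p) (𝟙 Y)).left.appTop = inv (snd P Y).left.appTop := by
    rw [← cancel_epi (snd P Y).left.appTop, h3]; simp
  have h5 : IsIso (lift (toUnit Y ≫ p) (𝟙 Y)).left.appTop := by rw [h4]; infer_instance
  rw [← cancel_mono (lift (toUnit Y ≫ p) (𝟙 Y)).left.appTop, ← Scheme.Hom.comp_appTop, ← Scheme.Hom.comp_appTop,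
    ← Over.comp_left, ← Over.comp_left]
  congr 2
  simp [← comp_lift_assoc]

end K399.Tools
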